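import Cfsg.Agent.H326.PiY.Fus
import Cfsg.Agent.H326.PiC.Main
import Cfsg.Agent.H326.CGU.Irr
import Cfsg.Agent.S0243
import Cfsg.Agent.S0280
import Cfsg.Prelude.Def_LieTypeChar

/-!
# S4324, section 7: cyclic Sylow subgroups, `PSL_n(q)` and `PSU_n(q)` (helper326)

`cy_psl`, `cy_psu` : the fields `cy` of the rows `psl`, `psu` of `H809.Pi.Rows`.
-/

set_option autoImplicit false

namespace Cfsg.Agent.H326.PiY

open Subgroup Cfsg Cfsg.Agent.H216.Pi

/-- the common argument -/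
theorem false_of_dim {K : Type} [Group K] [Finite K] [IsSimpleGroup K] (hK : ¬ IsMulCommutative K) {s r n : ℕ}
    (hs : s.Prime) (hsK : s ∣ Nat.card K) (hcyc : ∀ P : Sylow s K, IsCyclic (P : Subgroup K)) {x : MulAut K}
    (hx : (orderOf x).Prime) (h : FC s (mm r) x) (hf : ∀ y : K, orderOf y = s → fus 1 y ≤ n) (hn : n + 2 ≤ r) :
    False := by
  have := Fact.mk hs
  obtain ⟨y, hy⟩ := exists_prime_orderOf_dvd_card' s hsK
  refine PiC.false_of_fus_two hK hs hcyc hx hy (m := mm r) ?_ h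
  have h1 := hf y hy
  have h2 : 2 * (r - 2) ≤ mm r := le_max_right _ _
  omega

theorem pow_sub_one_dvd {r q : ℕ} (hr : r.Prime) (hq : ¬ r ∣ q) : r ∣ q ^ (r - 1) - 1 := by
  have := Fact.mk hr
  have hq0 : q ≠ 0 := by
    rintro rfl
    exact hq (dvd_zero _)
  rw [← ZMod.natCast_eq_zero_iff, Nat.cast_sub (Nat.one_le_pow _ _ (Nat.pos_of_ne_zero hq0)), Nat.cast_one,
    Nat.cast_pow, ZMod.pow_card_sub_one_eq_one, sub_self]
  rwa [Ne, ZMod.natCast_eq_zero_iff]

/-- small primes divide the order of `PSL_n(q)` -/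
theorem dvd_psl {F : Type*} [Field F] [Fintype F] {n r : ℕ} (hn : 2 ≤ n) (hr : r.Prime) (hr3 : 3 ≤ r)
    (h : r ≤ n + 1) : r ∣ Nat.card (Matrix.ProjectiveSpecialLinearGroup (Fin n) F) := by
  have hcard := S0243.result (F := F) rfl n hn
  set q := Fintype.card F with hq
  have hq2 : 2 ≤ q := Fintype.one_lt_card
  have hgl := CGU.glCard_eq n q
  unfold CGU.glCard at hgl
  rw [hgl] at hcard
  have hgcd : Nat.gcd n (q - 1) ∣ q - 1 := Nat.gcd_dvd_right _ _
  by_cases h1 : r ∣ q - 1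
  · -- cancel one factor `q - 1`
    obtain ⟨m, rfl⟩ := Nat.exists_eq_add_of_le' hn
    rw [Finset.prod_range_succ', zero_add, pow_one, mul_left_comm, ← mul_assoc (q ^ _), mul_comm _ (q - 1)] at hcard
    have h2 := Nat.eq_of_mul_eq_mul_left (show 0 < q - 1 by omega) hcard
    rw [Finset.prod_range_succ'] at h2
    rcases Nat.eq_zero_or_pos m with hm | hm
    · subst hm
      have hr' : r = 3 := by omega
      have h3 : r ∣ Nat.gcd (0 + 2) (q - 1) * Nat.card (Matrix.ProjectiveSpecialLinearGroup (Fin (0 + 2)) F) := by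
        rw [h2]
        refine Dvd.dvd.mul_left (Dvd.dvd.mul_left ?_ _) _
        exact h1.trans (Nat.sub_one_dvd_pow_sub_one q _)
      refine ((Nat.Prime.dvd_mul hr).1 h3).resolve_left fun h4 => ?_
      have h5 : r ∣ 2 := h4.trans (Nat.gcd_dvd_left _ _)
      have := Nat.le_of_dvd (by norm_num) h5
      omega
    · obtain ⟨k, rfl⟩ : ∃ k, m = k + 1 := ⟨m - 1, by omega⟩
      rw [Finset.prod_range_succ'] at h2
      obtain ⟨a, ha⟩ := hgcd
      obtain ⟨b, hb⟩ : q - 1 ∣ q ^ (0 + 1 + 1) - 1 := Nat.sub_one_dvd_pow_sub_one q _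
      obtain ⟨c, hc⟩ : q - 1 ∣ q ^ (0 + 1 + 1 + 1) - 1 := Nat.sub_one_dvd_pow_sub_one q _
      rw [hb, hc] at h2
      have hg0 : 0 < Nat.gcd (k + 1 + 2) (q - 1) := Nat.gcd_pos_of_pos_left _ (by omega)
      have h3 : Nat.gcd (k + 1 + 2) (q - 1) * Nat.card (Matrix.ProjectiveSpecialLinearGroup (Fin (k + 1 + 2)) F) =
          Nat.gcd (k + 1 + 2) (q - 1) * ((q - 1) * (a * (q ^ ((k + 1 + 2) * (k + 1 + 2 - 1) / 2) *
            ((∏ i ∈ Finset.range k, (q ^ (i + 1 + 1 + 1 + 1) - 1)) * c * b)))) := by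
        rw [h2]
        calc _ = (q - 1) * (q - 1) * (q ^ ((k + 1 + 2) * (k + 1 + 2 - 1) / 2) *
            ((∏ i ∈ Finset.range k, (q ^ (i + 1 + 1 + 1 + 1) - 1)) * c * b)) := by ring
          _ = (Nat.gcd (k + 1 + 2) (q - 1) * a) * (q - 1) * (q ^ ((k + 1 + 2) * (k + 1 + 2 - 1) / 2) *
            ((∏ i ∈ Finset.range k, (q ^ (i + 1 + 1 + 1 + 1) - 1)) * c * b)) := by rw [← ha]
          _ = _ := by ring
      rw [Nat.eq_of_mul_eq_mul_left hg0 h3]
      exact h1.mul_right _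
  · have h2 : r ∣ Nat.gcd n (q - 1) * ((q - 1) * Nat.card (Matrix.ProjectiveSpecialLinearGroup (Fin n) F)) := by
      rw [hcard]
      by_cases h3 : r ∣ q
      · refine Dvd.dvd.mul_right (dvd_pow h3 ?_) _
        have h4 : 2 ≤ n * (n - 1) := by
          calc 2 = 2 * 1 := rfl
            _ ≤ n * (n - 1) := Nat.mul_le_mul hn (by omega)
        omega
      · refine Dvd.dvd.mul_left ?_ _
        have h4 := pow_sub_one_dvd hr h3
        refine h4.trans ?_
        have h5 := Finset.dvd_prod_of_mem (fun i => q ^ (i + 1) - 1) (Finset.mem_range.2 (by omega : r - 2 < n))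
        have h6 : r - 2 + 1 = r - 1 := by omega
        simp only [h6] at h5
        exact h5
    rcases (Nat.Prime.dvd_mul hr).1 h2 with h3 | h3
    · exact (h1 (h3.trans hgcd)).elim
    · exact ((Nat.Prime.dvd_mul hr).1 h3).resolve_left h1

/-- small primes divide the order of `PSU_n(q)` -/
theorem dvd_psu {F : Type*} [Field F] [Fintype F] {q n r : ℕ} (hF : Fintype.card F = q ^ 2) (hn : 3 ≤ n)
    (hr : r.Prime) (hr3 : 3 ≤ r) (h : r ≤ n + 1) : r ∣ Nat.card (PSU n F q) := by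
  have hcard := S0280.result (F := F) hF n (by omega)
  have hq2 : 2 ≤ q := LieClassical.GUOrder.two_le hF
  have hgcd : Nat.gcd n (q + 1) ∣ q + 1 := Nat.gcd_dvd_right _ _
  by_cases h1 : r ∣ q + 1
  · obtain ⟨m, rfl⟩ := Nat.exists_eq_add_of_le' hn
    rw [Finset.prod_range_succ', Finset.prod_range_succ', Finset.prod_range_succ'] at hcard
    rw [if_pos (by decide : Even 0), if_neg (by decide : ¬ Even (0 + 1)), if_pos (by decide : Even (0 + 1 + 1))] at hcard
    obtain ⟨a, ha⟩ := hgcd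
    obtain ⟨b, hb⟩ : q + 1 ∣ q ^ (0 + 1 + 1) - 1 := ⟨q - 1, by
      have := Nat.sq_sub_sq q 1
      simpa using this⟩
    obtain ⟨c, hc⟩ : q + 1 ∣ q ^ (0 + 1 + 1 + 1) + 1 := by
      have := Odd.nat_add_dvd_pow_add_pow q 1 (n := 3) (by decide)
      simpa using this
    rw [hb, hc, zero_add, pow_one] at hcard
    have hg0 : 0 < Nat.gcd (m + 3) (q + 1) := Nat.gcd_pos_of_pos_left _ (by omega)
    have h3 : Nat.gcd (m + 3) (q + 1) * ((q + 1) * Nat.card (PSU (m + 3) F q)) =
        Nat.gcd (m + 3) (q + 1) * ((q + 1) * ((q + 1) * (a * (q ^ ((m + 3) * (m + 3 - 1) / 2) *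
          ((∏ i ∈ Finset.range m, if Even (i + 1 + 1 + 1) then q ^ (i + 1 + 1 + 1 + 1) + 1 else q ^ (i + 1 + 1 + 1 + 1) - 1) * c * b))))) := by
      rw [hcard]
      calc _ = (q + 1) * (q + 1) * (q + 1) * (q ^ ((m + 3) * (m + 3 - 1) / 2) *
            ((∏ i ∈ Finset.range m, if Even (i + 1 + 1 + 1) then q ^ (i + 1 + 1 + 1 + 1) + 1 else q ^ (i + 1 + 1 + 1 + 1) - 1) * c * b)) := by ring
        _ = (Nat.gcd (m + 3) (q + 1) * a) * (q + 1) * (q + 1) * (q ^ ((m + 3) * (m + 3 - 1) / 2) *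
            ((∏ i ∈ Finset.range m, if Even (i + 1 + 1 + 1) then q ^ (i + 1 + 1 + 1 + 1) + 1 else q ^ (i + 1 + 1 + 1 + 1) - 1) * c * b)) := by
          rw [← ha]
        _ = _ := by ring
    have h4 := Nat.eq_of_mul_eq_mul_left (show 0 < q + 1 by omega) (Nat.eq_of_mul_eq_mul_left hg0 h3)
    rw [h4]
    exact h1.mul_right _
  · have h2 : r ∣ Nat.gcd n (q + 1) * ((q + 1) * Nat.card (PSU n F q)) := by
      rw [hcard]
      by_cases h3 : r ∣ q
      · refine Dvd.dvd.mul_right (dvd_pow h3 ?_) _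
        have h4 : 6 ≤ n * (n - 1) := by
          calc 6 = 3 * 2 := rfl
            _ ≤ n * (n - 1) := Nat.mul_le_mul hn (by omega)
        omega
      · refine Dvd.dvd.mul_left ?_ _
        have h4 := pow_sub_one_dvd hr h3
        refine h4.trans ?_
        have h5 := Finset.dvd_prod_of_mem (fun i => if Even i then q ^ (i + 1) + 1 else q ^ (i + 1) - 1)
          (Finset.mem_range.2 (by omega : r - 2 < n))
        have h6 : r - 2 + 1 = r - 1 := by omega
        have h7 : ¬ Even (r - 2) := by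
          intro h8
          have h9 : Even r := by
            rw [Nat.even_iff] at h8 ⊢
            omega
          have h10 := (hr.even_iff).1 h9
          omega
        simp only [if_neg h7, h6] at h5
        exact h5
    rcases (Nat.Prime.dvd_mul hr).1 h2 with h3 | h3
    · exact (h1 (h3.trans hgcd)).elim
    · exact ((Nat.Prime.dvd_mul hr).1 h3).resolve_left h1

/-- **LEMMA FUS** for a quotient by the centre -/
theorem fus_one_center {Γ K F : Type*} [Group Γ] [Finite Γ] [Group K] [Field F] (e : K ≃* Γ ⧸ center Γ) {n : ℕ}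
    (ρ : Γ →* Matrix (Fin n) (Fin n) F) (hρ : Function.Injective ρ) {s : ℕ} (hs : s.Prime) (hsF : (s : F) ≠ 0)
    (hZs : ¬ s ∣ Nat.card (center Γ)) {y : K} (hy : orderOf y = s) : fus 1 y ≤ n := by
  have hker : (e.symm.toMonoidHom.comp (QuotientGroup.mk' (center Γ))).ker = center Γ := by
    ext a
    rw [MonoidHom.mem_ker]
    show e.symm (QuotientGroup.mk' (center Γ) a) = 1 ↔ _
    rw [MulEquiv.map_eq_one_iff, QuotientGroup.mk'_apply, QuotientGroup.eq_one_iff]
  refine fus_one_le (e.symm.toMonoidHom.comp (QuotientGroup.mk' (center Γ)))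
    (e.symm.surjective.comp (QuotientGroup.mk'_surjective _)) ?_ ρ hρ hs hsF ?_ hy
  · intro z hz a
    rw [hker] at hz
    exact (mem_center_iff.1 hz a).symm
  · rwa [hker]

theorem natCast_ne_zero {F : Type*} [Field F] {t s : ℕ} [CharP F t] (ht : t.Prime) (hs : s.Prime) (hst : s ≠ t) :
    (s : F) ≠ 0 := by
  intro h
  have h1 := (CharP.cast_eq_zero_iff F t s).1 h
  exact hst ((Nat.prime_dvd_prime_iff_eq ht hs).1 h1).symm

/-- **the field `cy` of the row `psl`** -/
theorem cy_psl (t : ℕ) (K : Type) [Group K] [Finite K] [IsSimpleGroup K] (hK : ¬ IsMulCommutative K) (ht : t.Prime)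
    (hP : IsPSLChar t K) : CY t K := by
  obtain ⟨F, iF, iFf, hch, n, hn, _, ⟨e⟩⟩ := hP
  intro s r x hs hr hr3 hrs hrK hst hsK hcyc hx hxs hxr _ hFC
  rw [Nat.card_congr e.toEquiv] at hrK
  have hnr : n + 2 ≤ r := by
    by_contra h
    exact hrK (dvd_psl hn hr hr3 (by omega))
  refine false_of_dim hK hs hsK hcyc hx hFC (n := n) (fun y hy => ?_) hnr
  refine fus_one_center e (slToMat n F) (fun a b h => Subtype.ext h) hs (natCast_ne_zero ht hs hst) ?_ hy
  rw [S0280.card_center_SL (by omega)]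
  intro h
  have h1 := Nat.le_of_dvd (by omega) (h.trans (Nat.gcd_dvd_left _ _))
  omega

/-- **the field `cy` of the row `psu`** -/
theorem cy_psu (t : ℕ) (K : Type) [Group K] [Finite K] [IsSimpleGroup K] (hK : ¬ IsMulCommutative K) (ht : t.Prime)
    (hP : IsPSUChar t K) : CY t K := by
  obtain ⟨F, iF, iFf, hch, n, q, hF, hn, _, ⟨e⟩⟩ := hP
  intro s r x hs hr hr3 hrs hrK hst hsK hcyc hx hxs hxr _ hFC
  rw [Nat.card_congr e.toEquiv] at hrK
  have hnr : n + 2 ≤ r := by
    by_contra h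
    exact hrK (dvd_psu hF hn hr hr3 (by omega))
  refine false_of_dim hK hs hsK hcyc hx hFC (n := n) (fun y hy => ?_) hnr
  refine fus_one_center e ((slToMat n F).comp (SU n F q).subtype)
    (fun a b h => Subtype.ext (Subtype.ext h)) hs (natCast_ne_zero ht hs hst) ?_ hy
  rw [S0280.card_center hF n (by omega)]
  intro h
  have h1 := Nat.le_of_dvd (by omega) (h.trans (Nat.gcd_dvd_left _ _))
  omega

end Cfsg.Agent.H326.PiY
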